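import Mathlib
import Groth.Prelude.Def_W4c5adicflatcomplDec

/-!
# Adically decaying functions
-/

universe u v w w'

open W4c5adicflatcompl Submodule

set_option linter.style.haveILetI false

namespace Groth.Agent.AdicDecay

variable {A : Type u} [CommRing A] {I : Ideal A} {Z : Type v} {M : Type w} [AddCommGroup M] [Module A M]
  {N : Type w'} [AddCommGroup N] [Module A N]

theorem map_mem_smul_top (φ : M →ₗ[A] N) {n : ℕ} {x : M} (hx : x ∈ (I ^ n • ⊤ : Submodule A M)) :
    φ x ∈ (I ^ n • ⊤ : Submodule A N) := by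
  have := mem_map_of_mem (f := φ) hx
  rw [map_smul''] at this
  exact smul_mono le_rfl le_top this

/-- Postcomposition of decaying functions with a linear map. -/
def mapDecay (φ : M →ₗ[A] N) : decaying I Z M →ₗ[A] decaying I Z N where
  toFun f := ⟨fun z => φ ((f : Z → M) z), fun n =>
    (f.2 n).subset fun _ hz h => hz (map_mem_smul_top φ h)⟩
  map_add' f g := Subtype.ext (funext fun z => by simp)
  map_smul' a f := Subtype.ext (funext fun z => by simp)

@[simp] theorem mapDecay_apply (φ : M →ₗ[A] N) (f : decaying I Z M) (z : Z) :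
    (mapDecay φ f : Z → N) z = φ ((f : Z → M) z) := rfl

/-- Decaying functions with values in isomorphic modules. -/
def congrDecay (e : M ≃ₗ[A] N) : decaying I Z M ≃ₗ[A] decaying I Z N :=
  LinearEquiv.ofLinearMap (mapDecay e.toLinearMap) (mapDecay e.symm.toLinearMap)
    (LinearMap.ext fun f => Subtype.ext (funext fun z => by simp))
    (LinearMap.ext fun f => Subtype.ext (funext fun z => by simp))

theorem apply_mem_of_mem_smul_top {n : ℕ} {f : decaying I Z M}
    (hf : f ∈ (I ^ n • ⊤ : Submodule A (decaying I Z M))) (z : Z) :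
    (f : Z → M) z ∈ (I ^ n • ⊤ : Submodule A M) :=
  map_mem_smul_top (LinearMap.proj (R := A) (φ := fun _ : Z => M) z ∘ₗ (decaying I Z M).subtype) hf

theorem isHausdorff_decaying [IsHausdorff I M] : IsHausdorff I (decaying I Z M) where
  haus' f hf := Subtype.ext <| funext fun z =>
    IsHausdorff.haus ‹_› _ fun n =>
      SModEq.zero.mpr (apply_mem_of_mem_smul_top (SModEq.zero.mp (hf n)) z)

/-- Decaying lifts along a map satisfying an Artin-Rees bound. -/
theorem exists_lift (φ : M →ₗ[A] N) [IsHausdorff I N] (c : ℕ)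
    (hAR : ∀ k, ∀ x ∈ (I ^ (k + c) • ⊤ : Submodule A N), x ∈ LinearMap.range φ →
      ∃ y ∈ (I ^ k • ⊤ : Submodule A M), φ y = x)
    (g : Z → N) (hg : g ∈ decaying I Z N) (hr : ∀ z, g z ∈ LinearMap.range φ) :
    ∃ f ∈ decaying I Z M, ∀ z, φ (f z) = g z := by
  classical
  have hex : ∀ z, ∃ y, φ y = g z ∧
      ∀ n, g z ∈ (I ^ (n + c) • ⊤ : Submodule A N) → y ∈ (I ^ n • ⊤ : Submodule A M) := by
    intro z
    by_cases h : ∃ k, g z ∉ (I ^ k • ⊤ : Submodule A N)
    · have hlow : ∀ j < Nat.find h, g z ∈ (I ^ j • ⊤ : Submodule A N) := fun j hj =>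
        not_not.mp (Nat.find_min h hj)
      by_cases hc : c < Nat.find h
      · obtain ⟨y, hy, hy'⟩ := hAR (Nat.find h - 1 - c) (g z) (hlow _ (by omega)) (hr z)
        refine ⟨y, hy', fun n hn => ?_⟩
        have hlt : n + c < Nat.find h := by
          by_contra hge
          exact Nat.find_spec h (smul_mono (Ideal.pow_le_pow_right (not_lt.mp hge)) le_rfl hn)
        exact smul_mono (Ideal.pow_le_pow_right (by omega)) le_rfl hy
      · obtain ⟨y, hy⟩ := hr z
        refine ⟨y, hy, fun n hn => ?_⟩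
        exact absurd (smul_mono (Ideal.pow_le_pow_right (by omega : Nat.find h ≤ n + c)) le_rfl hn)
          (Nat.find_spec h)
    · push Not at h
      have h0 : g z = 0 := IsHausdorff.haus ‹_› _ fun n => SModEq.zero.mpr (h n)
      exact ⟨0, by rw [map_zero, h0], fun n _ => zero_mem _⟩
  choose f hf hf' using hex
  exact ⟨f, fun n => (hg (n + c)).subset fun z hz h => hz (hf' z n h), hf⟩

theorem mem_smul_top_pi {ι : Type*} [Finite ι] {n : ℕ} {y : ι → M}
    (hy : ∀ j, y j ∈ (I ^ n • ⊤ : Submodule A M)) : y ∈ (I ^ n • ⊤ : Submodule A (ι → M)) := by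
  classical
  have := Fintype.ofFinite ι
  rw [← Finset.univ_sum_single y]
  exact sum_mem fun j _ => map_mem_smul_top (LinearMap.single A (fun _ => M) j) (hy j)

/-- A decaying function with values in `I ^ n • M` lies in `I ^ n • ⊤`. -/
theorem mem_smul_top_of_forall (hI : I.FG) [IsHausdorff I M] {n : ℕ} (f : decaying I Z M)
    (hf : ∀ z, (f : Z → M) z ∈ (I ^ n • ⊤ : Submodule A M)) :
    f ∈ (I ^ n • ⊤ : Submodule A (decaying I Z M)) := by
  classical
  obtain ⟨s, hs⟩ := hI.pow (n := n)
  let φ : (↥(s : Set A) → M) →ₗ[A] M :=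
    ∑ j : (s : Set A), (j : A) • LinearMap.proj (R := A) (φ := fun _ : (s : Set A) => M) j
  have hspan : ∀ k, ∀ x ∈ (I ^ (k + n) • ⊤ : Submodule A M),
      ∃ y ∈ (I ^ k • ⊤ : Submodule A (↥(s : Set A) → M)), φ y = x := by
    intro k x hx
    rw [add_comm, pow_add, ← smul_eq_mul, smul_assoc] at hx
    refine Submodule.smul_induction_on hx ?_ ?_
    · intro r hr m hm
      rw [← hs] at hr
      rw [← Subtype.range_coe (s := (s : Set A))] at hr
      obtain ⟨a, ha⟩ := (Submodule.mem_span_range_iff_exists_fun A).mp hr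
      refine ⟨fun j => a j • m, mem_smul_top_pi fun j => smul_mem _ _ hm, ?_⟩
      simp only [φ, LinearMap.coe_sum, Finset.sum_apply, LinearMap.smul_apply, LinearMap.proj_apply,
        smul_smul]
      rw [← ha, Finset.sum_smul]
      exact Finset.sum_congr rfl fun j _ => by rw [smul_eq_mul, mul_comm]
    · intro a b ha hb
      obtain ⟨y, hy, rfl⟩ := ha
      obtain ⟨y', hy', rfl⟩ := hb
      exact ⟨y + y', add_mem hy hy', map_add φ y y'⟩
  have hr : ∀ z, (f : Z → M) z ∈ LinearMap.range φ := fun z => by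
    obtain ⟨y, -, hy⟩ := hspan 0 _ (by rw [zero_add]; exact hf z)
    exact ⟨y, hy⟩
  obtain ⟨F, hF, hFf⟩ := exists_lift φ n (fun k x hx _ => hspan k x hx) (f : Z → M) f.2 hr
  have heq : f = ∑ j : (s : Set A), (j : A) • mapDecay (LinearMap.proj (R := A) (φ := fun _ : (s : Set A) => M) j) ⟨F, hF⟩ :=
    Subtype.ext <| funext fun z => by
      rw [← hFf z]
      simp [φ, Submodule.coe_sum, Finset.sum_apply]
  rw [heq]
  exact sum_mem fun j _ => smul_mem_smul (hs ▸ subset_span j.2) trivial

theorem isAdicComplete_decaying (hI : I.FG) [IsAdicComplete I M] : IsAdicComplete I (decaying I Z M) := by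
  refine { toIsHausdorff := isHausdorff_decaying, toIsPrecomplete := ⟨fun F hF => ?_⟩ }
  have hcau : ∀ z {m n : ℕ}, m ≤ n →
      (F m : Z → M) z ≡ (F n : Z → M) z [SMOD (I ^ m • ⊤ : Submodule A M)] := fun z m n h =>
    SModEq.sub_mem.mpr (apply_mem_of_mem_smul_top (SModEq.sub_mem.mp (hF h)) z)
  choose L hL using fun z => IsPrecomplete.prec (inferInstance : IsPrecomplete I M) (hcau z)
  have hdec : L ∈ decaying I Z M := fun n => ((F n).2 n).subset fun z hz h => hz <| by
    rw [← sub_sub_cancel ((F n : Z → M) z) (L z)]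
    exact sub_mem h (SModEq.sub_mem.mp (hL z n))
  exact ⟨⟨L, hdec⟩, fun n => SModEq.sub_mem.mpr
    (mem_smul_top_of_forall hI _ fun z => SModEq.sub_mem.mp (hL z n))⟩

section sum

set_option linter.unusedSectionVars false

variable [IsAdicComplete I M]

theorem sum_sub_sum_mem {h : Z → M} {n : ℕ} {S T : Finset Z}
    (hS : ∀ z, z ∉ S → h z ∈ (I ^ n • ⊤ : Submodule A M))
    (hT : ∀ z, z ∉ T → h z ∈ (I ^ n • ⊤ : Submodule A M)) :
    ∑ z ∈ S, h z - ∑ z ∈ T, h z ∈ (I ^ n • ⊤ : Submodule A M) := by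
  classical
  rw [← sub_sub_sub_cancel_left _ _ (∑ z ∈ S ∪ T, h z), ← Finset.sum_sdiff_eq_sub Finset.subset_union_left,
    ← Finset.sum_sdiff_eq_sub Finset.subset_union_right]
  exact sub_mem (sum_mem fun z hz => hT z (Finset.mem_sdiff.mp hz).2)
    (sum_mem fun z hz => hS z (Finset.mem_sdiff.mp hz).2)

theorem existsUnique_adicSum (h : Z → M) (hh : h ∈ decaying I Z M) :
    ∃! m : M, ∀ n (S : Finset Z), (∀ z, z ∉ S → h z ∈ (I ^ n • ⊤ : Submodule A M)) →
      m - ∑ z ∈ S, h z ∈ (I ^ n • ⊤ : Submodule A M) := by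
  have hS : ∀ n z, z ∉ (hh n).toFinset → h z ∈ (I ^ n • ⊤ : Submodule A M) := fun n z hz =>
    not_not.mp fun h' => hz ((hh n).mem_toFinset.mpr h')
  have hcau : ∀ {m n : ℕ}, m ≤ n → ∑ z ∈ (hh m).toFinset, h z ≡ ∑ z ∈ (hh n).toFinset, h z
      [SMOD (I ^ m • ⊤ : Submodule A M)] := fun {m n} hmn =>
    SModEq.sub_mem.mpr (sum_sub_sum_mem (hS m)
      fun z hz => smul_mono (Ideal.pow_le_pow_right hmn) le_rfl (hS n z hz))
  obtain ⟨L, hL⟩ := IsPrecomplete.prec (inferInstance : IsPrecomplete I M) hcau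
  refine ⟨L, fun n S hz => ?_, fun y hy => ?_⟩
  · have h1 := SModEq.sub_mem.mp (hL n)
    have h2 := sum_sub_sum_mem (hS n) hz
    have := sub_mem h2 h1
    rwa [sub_sub_sub_cancel_left] at this
  · refine (IsHausdorff.eq_iff_smodEq (I := I)).mpr fun n => SModEq.sub_mem.mpr ?_
    have := add_mem (hy n _ (hS n)) (SModEq.sub_mem.mp (hL n))
    rwa [sub_add_sub_cancel] at this

variable (φ : Z → N →ₗ[A] M)

theorem apply_mem_decaying (g : decaying I Z N) : (fun z => φ z ((g : Z → N) z)) ∈ decaying I Z M :=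
  fun n => (g.2 n).subset fun z hz h => hz (map_mem_smul_top (φ z) h)

/-- The sum of a family of maps applied to a decaying function. -/
noncomputable def adicSum : decaying I Z N →ₗ[A] M where
  toFun g := (existsUnique_adicSum _ (apply_mem_decaying φ g)).choose
  map_add' g g' := by
    classical
    set a := existsUnique_adicSum _ (apply_mem_decaying φ g)
    set b := existsUnique_adicSum _ (apply_mem_decaying φ g')
    set c := existsUnique_adicSum _ (apply_mem_decaying φ (g + g'))
    refine (IsHausdorff.eq_iff_smodEq (I := I)).mpr fun n => SModEq.sub_mem.mpr ?_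
    let S := (apply_mem_decaying φ g n).toFinset ∪ (apply_mem_decaying φ g' n).toFinset
    have h1 : ∀ z, z ∉ S → φ z ((g : Z → N) z) ∈ (I ^ n • ⊤ : Submodule A M) := fun z hz =>
      not_not.mp fun h' => hz (Finset.mem_union_left _ ((Set.Finite.mem_toFinset _).mpr h'))
    have h2 : ∀ z, z ∉ S → φ z ((g' : Z → N) z) ∈ (I ^ n • ⊤ : Submodule A M) := fun z hz =>
      not_not.mp fun h' => hz (Finset.mem_union_right _ ((Set.Finite.mem_toFinset _).mpr h'))
    have h3 : ∀ z, z ∉ S → φ z (((g + g' : decaying I Z N) : Z → N) z) ∈ (I ^ n • ⊤ : Submodule A M) :=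
      fun z hz => by simpa using add_mem (h1 z hz) (h2 z hz)
    have := sub_mem (sub_mem (c.choose_spec.1 n S h3) (a.choose_spec.1 n S h1)) (b.choose_spec.1 n S h2)
    refine (congrArg (· ∈ (I ^ n • ⊤ : Submodule A M)) ?_).mp this
    simp only [Submodule.coe_add, Pi.add_apply, map_add, Finset.sum_add_distrib]
    abel
  map_smul' r g := by
    classical
    set a := existsUnique_adicSum _ (apply_mem_decaying φ g)
    set c := existsUnique_adicSum _ (apply_mem_decaying φ (r • g))
    simp only [RingHom.id_apply]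
    refine (IsHausdorff.eq_iff_smodEq (I := I)).mpr fun n => SModEq.sub_mem.mpr ?_
    let S := (apply_mem_decaying φ g n).toFinset
    have h1 : ∀ z, z ∉ S → φ z ((g : Z → N) z) ∈ (I ^ n • ⊤ : Submodule A M) := fun z hz =>
      not_not.mp fun h' => hz ((Set.Finite.mem_toFinset _).mpr h')
    have h3 : ∀ z, z ∉ S → φ z (((r • g : decaying I Z N) : Z → N) z) ∈ (I ^ n • ⊤ : Submodule A M) :=
      fun z hz => by simpa using smul_mem _ r (h1 z hz)
    have := sub_mem (c.choose_spec.1 n S h3) (smul_mem _ r (a.choose_spec.1 n S h1))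
    refine (congrArg (· ∈ (I ^ n • ⊤ : Submodule A M)) ?_).mp this
    simp only [Submodule.coe_smul, Pi.smul_apply, map_smul, smul_sub, Finset.smul_sum]
    abel

theorem adicSum_spec (g : decaying I Z N) (n : ℕ) (S : Finset Z)
    (hS : ∀ z, z ∉ S → φ z ((g : Z → N) z) ∈ (I ^ n • ⊤ : Submodule A M)) :
    adicSum φ g - ∑ z ∈ S, φ z ((g : Z → N) z) ∈ (I ^ n • ⊤ : Submodule A M) :=
  (existsUnique_adicSum _ (apply_mem_decaying φ g)).choose_spec.1 n S hS

theorem adicSum_single [DecidableEq Z] (z : Z) (x : N) : adicSum φ (single I z x) = φ z x := by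
  refine (IsHausdorff.eq_iff_smodEq (I := I)).mpr fun n => SModEq.sub_mem.mpr ?_
  have := adicSum_spec φ (single I z x) n {z} fun y hy => by
    simp [Pi.single_eq_of_ne (Finset.notMem_singleton.mp hy)]
  simpa using this

end sum

/-- Linear maps out of decaying functions are determined by their values on single functions. -/
theorem ext_single [DecidableEq Z] (hI : I.FG) [IsHausdorff I N] [IsHausdorff I M]
    {ψ ψ' : decaying I Z N →ₗ[A] M} (h : ∀ z x, ψ (single I z x) = ψ' (single I z x)) : ψ = ψ' := by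
  classical
  refine LinearMap.ext fun g => (IsHausdorff.eq_iff_smodEq (I := I)).mpr fun n => SModEq.sub_mem.mpr ?_
  let S := (g.2 n).toFinset
  have hg : g - ∑ z ∈ S, single I z ((g : Z → N) z) ∈ (I ^ n • ⊤ : Submodule A (decaying I Z N)) := by
    refine mem_smul_top_of_forall hI _ fun y => ?_
    simp only [Submodule.coe_sub, Submodule.coe_sum, coe_single, Pi.sub_apply, Finset.sum_apply,
      Finset.sum_pi_single]
    by_cases hy : y ∈ S
    · rw [if_pos hy, sub_self]; exact zero_mem _
    · rw [if_neg hy, sub_zero]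
      exact not_not.mp fun h' => hy ((Set.Finite.mem_toFinset _).mpr h')
  have := sub_mem (map_mem_smul_top ψ hg) (map_mem_smul_top ψ' hg)
  simpa [map_sum, h] using this

end Groth.Agent.AdicDecay
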