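import Mathlib
import Groth.Agent.AdicDecay.Basic

/-!
# The completion of a free module as decaying functions
-/

universe u v w

open W4c5adicflatcompl Submodule

set_option linter.style.haveILetI false

namespace Groth.Agent.AdicDecay

variable {A : Type u} [CommRing A] {I : Ideal A} {M : Type w} [AddCommGroup M] [Module A M]

/-- If the completion is precomplete, the kernels of evaluation are the powers. -/
theorem mem_smul_top_of_eval_eq_zero [IsPrecomplete I (AdicCompletion I M)] {n : ℕ}
    {y : AdicCompletion I M} (hy : y.val n = 0) : y ∈ (I ^ n • ⊤ : Submodule A (AdicCompletion I M)) := by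
  choose m hm using fun k => Submodule.Quotient.mk_surjective _ (y.val k)
  have hcau : ∀ {k l : ℕ}, k ≤ l → AdicCompletion.of I M (m k) ≡ AdicCompletion.of I M (m l)
      [SMOD (I ^ k • ⊤ : Submodule A (AdicCompletion I M))] := fun {k l} hkl => by
    refine SModEq.sub_mem.mpr ?_
    rw [← map_sub]
    refine map_mem_smul_top (AdicCompletion.of I M) ((Submodule.Quotient.eq _).mp ?_)
    rw [hm, ← y.2 hkl]
    rw [← hm l]
    rfl
  obtain ⟨y', hy'⟩ := IsPrecomplete.prec (inferInstance : IsPrecomplete I (AdicCompletion I M)) hcau
  have : y' = y := AdicCompletion.ext fun k => by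
    have := AdicCompletion.pow_smul_top_le_ker_eval (I := I) (M := M) k (SModEq.sub_mem.mp (hy' k))
    rw [LinearMap.mem_ker, map_sub, AdicCompletion.eval_of, sub_eq_zero, AdicCompletion.eval_apply] at this
    exact this.symm.trans (hm k)
  subst this
  rw [← sub_sub_cancel (AdicCompletion.of I M (m n)) y']
  refine sub_mem (map_mem_smul_top (AdicCompletion.of I M) ?_) (SModEq.sub_mem.mp (hy' n))
  rw [← Submodule.Quotient.mk_eq_zero, hm, hy]

theorem mem_smul_top_finsupp {Z : Type v} {n : ℕ} {f : Z →₀ M}
    (hf : ∀ z, f z ∈ (I ^ n • ⊤ : Submodule A M)) : f ∈ (I ^ n • ⊤ : Submodule A (Z →₀ M)) := by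
  classical
  rw [← Finsupp.sum_single f]
  exact sum_mem fun z _ => map_mem_smul_top (Finsupp.lsingle z) (hf z)

/-- Coordinates on the completion of a free module. -/
noncomputable def coords (I : Ideal A) (Z : Type v) (M : Type w) [AddCommGroup M] [Module A M] :
    AdicCompletion I (Z →₀ M) →ₗ[A] (Z → AdicCompletion I M) :=
  LinearMap.pi fun z => (AdicCompletion.map I (Finsupp.lapply (M := M) (R := A) z)).restrictScalars A

theorem coords_val {Z : Type v} (x : AdicCompletion I (Z →₀ M)) (z : Z) (n : ℕ) (f : Z →₀ M)
    (hf : Submodule.Quotient.mk f = x.val n) :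
    (coords I Z M x z).val n = Submodule.Quotient.mk (f z) := by
  show (AdicCompletion.map I (Finsupp.lapply (M := M) (R := A) z) x).val n = _
  rw [AdicCompletion.map_val_apply, ← hf]
  rfl

theorem coords_injective {Z : Type v} : Function.Injective (coords I Z M) := by
  refine (injective_iff_map_eq_zero _).mpr fun x hx => AdicCompletion.ext fun n => ?_
  obtain ⟨f, hf⟩ := Submodule.Quotient.mk_surjective _ (x.val n)
  rw [← hf, AdicCompletion.val_zero_apply, Submodule.Quotient.mk_eq_zero]
  refine mem_smul_top_finsupp fun z => ?_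
  have := coords_val x z n f hf
  rw [hx, Pi.zero_apply, AdicCompletion.val_zero_apply] at this
  exact (Submodule.Quotient.mk_eq_zero _).mp this.symm

theorem range_coords {Z : Type v} [IsPrecomplete I (AdicCompletion I M)] :
    LinearMap.range (coords I Z M) = decaying I Z (AdicCompletion I M) := by
  classical
  ext g
  constructor
  · rintro ⟨x, rfl⟩ n
    obtain ⟨f, hf⟩ := Submodule.Quotient.mk_surjective _ (x.val n)
    refine f.support.finite_toSet.subset fun z hz => ?_
    by_contra h
    refine hz (mem_smul_top_of_eval_eq_zero ?_)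
    rw [coords_val x z n f hf, Finsupp.notMem_support_iff.mp h, Submodule.Quotient.mk_zero]
  · intro hg
    choose r hr using fun z n => Submodule.Quotient.mk_surjective _ ((g z).val n)
    let a : ℕ → (Z →₀ M) := fun n => ∑ z ∈ (hg n).toFinset, Finsupp.single z (r z n)
    have ha : ∀ n z, (Submodule.Quotient.mk (a n z) : M ⧸ (I ^ n • ⊤ : Submodule A M)) = (g z).val n := by
      intro n z
      simp only [a, Finsupp.coe_finset_sum, Finset.sum_apply, Finsupp.single_apply, Finset.sum_ite_eq']
      split_ifs with h
      · exact hr z n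
      · have hz : g z ∈ (I ^ n • ⊤ : Submodule A (AdicCompletion I M)) :=
          not_not.mp fun h' => h ((hg n).mem_toFinset.mpr h')
        have := AdicCompletion.pow_smul_top_le_ker_eval (I := I) (M := M) n hz
        rw [LinearMap.mem_ker, AdicCompletion.eval_apply] at this
        rw [this, Submodule.Quotient.mk_zero]
    have hcau : ∀ n, a n ≡ a (n + 1) [SMOD (I ^ n • ⊤ : Submodule A (Z →₀ M))] := fun n => by
      refine SModEq.sub_mem.mpr (mem_smul_top_finsupp fun z => ?_)
      rw [Finsupp.sub_apply, ← Submodule.Quotient.eq]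
      have h1 := ha n z
      have h2 := ha (n + 1) z
      rw [h1, ← (g z).2 n.le_succ, ← h2]
      rfl
    refine ⟨AdicCompletion.mk I (Z →₀ M) (AdicCompletion.AdicCauchySequence.mk I _ a hcau),
      funext fun z => AdicCompletion.ext fun n => ?_⟩
    exact (coords_val _ z n (a n) rfl).trans (ha n z)

/-- The completion of `Z →₀ M` is the module of decaying functions with values in the completion. -/
noncomputable def finsuppEquiv (I : Ideal A) (Z : Type v) (M : Type w) [AddCommGroup M] [Module A M]
    [IsPrecomplete I (AdicCompletion I M)] :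
    AdicCompletion I (Z →₀ M) ≃ₗ[A] decaying I Z (AdicCompletion I M) :=
  (LinearEquiv.ofInjective (coords I Z M) coords_injective).trans (LinearEquiv.ofEq _ _ range_coords)

theorem finsuppEquiv_apply {Z : Type v} [IsPrecomplete I (AdicCompletion I M)]
    (x : AdicCompletion I (Z →₀ M)) (z : Z) :
    (finsuppEquiv I Z M x : Z → AdicCompletion I M) z = coords I Z M x z := rfl

end Groth.Agent.AdicDecay
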