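import Mathlib
import Groth.Agent.AdicDecay.Completion
import Groth.Agent.CAlgBasics.MittagLeffler

/-!
# Flatness of decaying functions over Noetherian rings
-/

universe u v w

open W4c5adicflatcompl Submodule TensorProduct

set_option linter.style.haveILetI false

namespace Groth.Agent.AdicDecay

variable {A : Type u} [CommRing A] [IsNoetherianRing A] (I : Ideal A)

theorem exists_artinRees {M : Type w} [AddCommGroup M] [Module A M] [Module.Finite A M]
    {M' : Type*} [AddCommGroup M'] [Module A M'] (φ : M' →ₗ[A] M) :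
    ∃ c, ∀ k, ∀ x ∈ (I ^ (k + c) • ⊤ : Submodule A M), x ∈ LinearMap.range φ →
      ∃ y ∈ (I ^ k • ⊤ : Submodule A M'), φ y = x := by
  obtain ⟨c, hc⟩ := Ideal.exists_pow_inf_eq_pow_smul I (LinearMap.range φ)
  refine ⟨c, fun k x hx hx' => ?_⟩
  have h1 : x ∈ I ^ (k + c - c) • (I ^ c • ⊤ ⊓ LinearMap.range φ) := hc (k + c) (by omega) ▸ mem_inf.mpr ⟨hx, hx'⟩
  rw [Nat.add_sub_cancel] at h1
  have h2 : x ∈ Submodule.map φ (I ^ k • ⊤) := by
    rw [map_smul'', Submodule.map_top]
    exact smul_mono le_rfl inf_le_right h1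
  exact h2

theorem map_sum_adicCompletion {M N : Type*} [AddCommGroup M] [Module A M] [AddCommGroup N] [Module A N]
    {ι : Type*} (s : Finset ι) (a : ι → A) (φ : ι → M →ₗ[A] N) (x : AdicCompletion I M) :
    AdicCompletion.map I (∑ i ∈ s, a i • φ i) x = ∑ i ∈ s, a i • AdicCompletion.map I (φ i) x := by
  classical
  refine AdicCompletion.ext fun n => ?_
  obtain ⟨f, hf⟩ := Submodule.Quotient.mk_surjective _ (x.val n)
  simp only [AdicCompletion.val_sum_apply, AdicCompletion.val_smul_apply, AdicCompletion.map_val_apply, ← hf]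
  simp only [LinearMap.reduceModIdeal_apply, LinearMap.coe_sum, Finset.sum_apply, LinearMap.smul_apply]
  rw [← mkQ_apply, map_sum]
  simp only [map_smul, mkQ_apply]

theorem exists_artinRees_completion {M : Type u} [AddCommGroup M] [Module A M] [Module.Finite A M]
    {M' : Type u} [AddCommGroup M'] [Module A M'] [Module.Finite A M'] (φ : M' →ₗ[A] M) :
    ∃ c, ∀ k, ∀ x ∈ (I ^ (k + c) • ⊤ : Submodule A (AdicCompletion I M)),
      x ∈ LinearMap.range ((AdicCompletion.map I φ).restrictScalars A) →
        ∃ y ∈ (I ^ k • ⊤ : Submodule A (AdicCompletion I M')), AdicCompletion.map I φ y = x := by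
  obtain ⟨c, hc⟩ := exists_artinRees I φ
  refine ⟨c, fun k x hx hxr => ?_⟩
  obtain ⟨w, rfl⟩ := hxr
  obtain ⟨v, hv⟩ := Submodule.Quotient.mk_surjective _ (w.val (k + c))
  have hφv : φ v ∈ (I ^ (k + c) • ⊤ : Submodule A M) := by
    have := AdicCompletion.pow_smul_top_le_ker_eval (I := I) (M := M) (k + c) hx
    rw [LinearMap.mem_ker, AdicCompletion.eval_apply, LinearMap.restrictScalars_apply,
      AdicCompletion.map_val_apply, ← hv] at this
    exact (Submodule.Quotient.mk_eq_zero _).mp this
  obtain ⟨i, hi, hiφ⟩ := hc k (φ v) hφv ⟨v, rfl⟩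
  refine ⟨w - AdicCompletion.of I M' (v - i), ?_, ?_⟩
  · rw [AdicCompletion.pow_smul_top_eq_ker_eval (IsNoetherian.noetherian I), LinearMap.mem_ker, map_sub,
      AdicCompletion.eval_of, AdicCompletion.eval_apply, ← w.2 (Nat.le_add_right k c), ← hv]
    show Submodule.Quotient.mk v - Submodule.Quotient.mk (v - i) = 0
    rw [← Submodule.Quotient.mk_sub, sub_sub_cancel, Submodule.Quotient.mk_eq_zero]
    exact hi
  · rw [map_sub, AdicCompletion.map_of, map_sub, hiφ, sub_self, map_zero, sub_zero]
    rfl

/-- Decaying functions with values in the completion of a Noetherian ring form a flat module. -/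
theorem flat_decaying (Z : Type v) : Module.Flat A (decaying I Z (AdicCompletion I A)) := by
  classical
  refine Module.Flat.of_forall_isTrivialRelation fun {l f x} hrel => ?_
  let F : (Fin l → A) →ₗ[A] A := ∑ i, f i • LinearMap.proj (R := A) (φ := fun _ : Fin l => A) i
  obtain ⟨s, g, hg⟩ := Submodule.fg_iff_exists_fin_generating_family.mp (IsNoetherian.noetherian (LinearMap.ker F))
  let φ : (Fin s → A) →ₗ[A] (Fin l → A) := Fintype.linearCombination A g
  have hφ : LinearMap.range φ = LinearMap.ker F := by rw [Fintype.range_linearCombination, hg]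
  let ψ : (Fin s → A) →ₗ[A] LinearMap.ker F := φ.codRestrict _ fun v => hφ.le ⟨v, rfl⟩
  have hψ : Function.Surjective ψ := fun v => by
    obtain ⟨w, hw⟩ := hφ.ge v.2
    exact ⟨w, Subtype.ext hw⟩
  have hF : Function.Exact (LinearMap.ker F).subtype F.rangeRestrict := fun v => by
    rw [← LinearMap.mem_ker, LinearMap.ker_rangeRestrict]
    exact ⟨fun h => ⟨⟨v, h⟩, rfl⟩, fun ⟨w, hw⟩ => hw ▸ w.2⟩
  let e := (AdicCompletion.piEquivOfFintype I (ι := Fin l) (fun _ => A)).restrictScalars A
  let G : decaying I Z (AdicCompletion I (Fin l → A)) :=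
    mapDecay e.symm.toLinearMap (∑ i, mapDecay (LinearMap.single A (fun _ : Fin l => AdicCompletion I A) i) (x i))
  have hG : ∀ i z, AdicCompletion.map I (LinearMap.proj (R := A) (φ := fun _ : Fin l => A) i)
      ((G : Z → AdicCompletion I (Fin l → A)) z) = (x i : Z → AdicCompletion I A) z := fun i z => by
    have h1 : (AdicCompletion.piEquivOfFintype I (ι := Fin l) (fun _ => A))
        ((G : Z → AdicCompletion I (Fin l → A)) z) = fun j => (x j : Z → AdicCompletion I A) z := by
      show e (e.symm _) = _
      rw [LinearEquiv.apply_symm_apply]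
      funext j
      simp [Submodule.coe_sum, Finset.sum_apply, Pi.single_apply]
    have := congrFun h1 i
    rw [AdicCompletion.piEquivOfFintype_apply] at this
    exact this
  have hker : ∀ z, AdicCompletion.map I F ((G : Z → AdicCompletion I (Fin l → A)) z) = 0 := fun z => by
    rw [map_sum_adicCompletion]
    simp only [hG]
    have := congrArg (fun w : decaying I Z (AdicCompletion I A) => (w : Z → AdicCompletion I A) z) hrel
    simpa [Submodule.coe_sum, Finset.sum_apply] using this
  have hmem : ∀ z, (G : Z → AdicCompletion I (Fin l → A)) z ∈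
      LinearMap.range ((AdicCompletion.map I φ).restrictScalars A) := fun z => by
    have h0 : AdicCompletion.map I F.rangeRestrict ((G : Z → AdicCompletion I (Fin l → A)) z) = 0 :=
      AdicCompletion.map_injective (I := I) (LinearMap.range F).injective_subtype (by
        rw [map_zero, AdicCompletion.map_comp_apply, show (LinearMap.range F).subtype ∘ₗ F.rangeRestrict = F from LinearMap.subtype_comp_codRestrict _ _ _]
        exact hker z)
    obtain ⟨w, hw⟩ := (AdicCompletion.map_exact (I := I) (LinearMap.ker F).injective_subtype hF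
      F.surjective_rangeRestrict _).mp h0
    obtain ⟨v, rfl⟩ := AdicCompletion.map_surjective I hψ w
    refine ⟨v, ?_⟩
    rw [LinearMap.restrictScalars_apply, ← hw, AdicCompletion.map_comp_apply, LinearMap.subtype_comp_codRestrict]
  obtain ⟨c, hc⟩ := exists_artinRees_completion I φ
  obtain ⟨h, hh, hhG⟩ := exists_lift ((AdicCompletion.map I φ).restrictScalars A) c hc
    (G : Z → AdicCompletion I (Fin l → A)) G.2 hmem
  let y : Fin s → decaying I Z (AdicCompletion I A) := fun j =>
    mapDecay ((AdicCompletion.map I (LinearMap.proj (R := A) (φ := fun _ : Fin s => A) j)).restrictScalars A) ⟨h, hh⟩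
  refine ⟨s, fun i j => g j i, y, fun i => Subtype.ext <| funext fun z => ?_, fun j => ?_⟩
  · rw [← hG i z, ← hhG z, LinearMap.restrictScalars_apply, AdicCompletion.map_comp_apply,
      show LinearMap.proj i ∘ₗ φ = ∑ j, g j i • LinearMap.proj (R := A) (φ := fun _ : Fin s => A) j from
        LinearMap.ext fun v => by simp [φ, Fintype.linearCombination_apply, mul_comm],
      map_sum_adicCompletion]
    simp [y, Submodule.coe_sum, Finset.sum_apply]
  · have : g j ∈ LinearMap.ker F := hg ▸ subset_span ⟨j, rfl⟩
    simpa [F] using this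

end Groth.Agent.AdicDecay
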