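import Mathlib
import Groth.Agent.AdicDecay.Flat
import Groth.Agent.S6338
import Groth.Agent.S6347

/-!
# Decaying functions over complete Noetherian rings
-/

universe u v w

open W4c5adicflatcompl Submodule TensorProduct

set_option linter.style.haveILetI false

namespace Groth.Agent.AdicDecay

variable {A : Type u} [CommRing A] [IsNoetherianRing A] (I : Ideal A) [IsAdicComplete I A]

theorem isHausdorff_finite (M : Type w) [AddCommGroup M] [Module A M] [Module.Finite A M] : IsHausdorff I M :=
  IsHausdorff.of_le_jacobson I M (IsAdicComplete.le_jacobson_bot I)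

theorem flat_decaying_self (Z : Type v) : Module.Flat A (decaying I Z A) :=
  haveI := flat_decaying I Z
  Module.Flat.of_linearEquiv (congrDecay (I := I) (Z := Z) (AdicCompletion.ofLinearEquiv I A))

theorem exists_lift_of_surjective {Z : Type v} {M : Type*} {M'' : Type*} [AddCommGroup M] [Module A M]
    [AddCommGroup M''] [Module A M''] [Module.Finite A M''] (φ : M →ₗ[A] M'') (hφ : Function.Surjective φ)
    (g : Z → M'') (hg : g ∈ decaying I Z M'') : ∃ f ∈ decaying I Z M, ∀ z, φ (f z) = g z := by
  have := isHausdorff_finite I M''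
  refine exists_lift φ 0 (fun k x hx _ => ?_) g hg fun z => hφ _
  have h : x ∈ Submodule.map φ (I ^ k • ⊤) := by
    rw [map_smul'', Submodule.map_top, LinearMap.range_eq_top.mpr hφ]
    exact hx
  exact h

/-- The evaluation map `M ⊗ decaying → Z → M`. -/
noncomputable def tensorEval (Z : Type v) (M : Type w) [AddCommGroup M] [Module A M] :
    M ⊗[A] decaying I Z A →ₗ[A] (Z → M) :=
  (TensorProduct.piScalarRightHom A A M Z) ∘ₗ ((decaying I Z A).subtype.lTensor M)

omit [IsNoetherianRing A] [IsAdicComplete I A] in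
theorem tensorEval_tmul {Z : Type v} {M : Type w} [AddCommGroup M] [Module A M] (m : M)
    (g : decaying I Z A) (z : Z) : tensorEval I Z M (m ⊗ₜ g) z = (g : Z → A) z • m := by
  simp [tensorEval]

theorem range_tensorEval (Z : Type v) (M : Type w) [AddCommGroup M] [Module A M] [Module.Finite A M] :
    LinearMap.range (tensorEval I Z M) = decaying I Z M := by
  classical
  refine le_antisymm ?_ fun f hf => ?_
  · rintro _ ⟨x, rfl⟩
    induction x with
    | zero => rw [map_zero]; exact zero_mem _
    | tmul m g =>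
      intro n
      refine (g.2 n).subset fun z hz h => hz ?_
      rw [tensorEval_tmul]
      exact map_mem_smul_top (LinearMap.toSpanSingleton A M m) h
    | add a b ha hb => rw [map_add]; exact add_mem ha hb
  · obtain ⟨r, φ, hφ⟩ := Module.Finite.exists_fin' A M
    obtain ⟨h, hh, hhf⟩ := exists_lift_of_surjective I φ hφ f hf
    refine ⟨∑ j, φ (Pi.single j 1) ⊗ₜ mapDecay (LinearMap.proj (R := A) (φ := fun _ : Fin r => A) j) ⟨h, hh⟩,
      funext fun z => ?_⟩
    rw [← hhf z, map_sum, Finset.sum_apply]
    conv_rhs => rw [pi_eq_sum_univ' (h z), map_sum]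
    exact Finset.sum_congr rfl fun j _ => by simp [tensorEval_tmul]

theorem tensorEval_injective (Z : Type v) (M : Type w) [AddCommGroup M] [Module A M] [Module.Finite A M] :
    Function.Injective (tensorEval I Z M) := by
  classical
  obtain ⟨r, φ, hφ⟩ := Module.Finite.exists_fin' A M
  refine (injective_iff_map_eq_zero _).mpr fun x hx => ?_
  let p : Fin r → M := fun j => φ (Pi.single j 1)
  have hp : span A (Set.range p) = ⊤ := by
    rw [show p = φ ∘ fun j : Fin r => Pi.single (M := fun _ => A) j 1 from rfl, Set.range_comp, ← map_span,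
      CAlgBasics.span_range_single, Submodule.map_top, LinearMap.range_eq_top.mpr hφ]
  obtain ⟨q, rfl⟩ := CAlgBasics.exists_sum_tmul p hp x
  have hφsum : ∀ v : Fin r → A, φ v = ∑ j, v j • p j := fun v => by
    conv_lhs => rw [pi_eq_sum_univ' v, map_sum]
    simp [p]
  let G : decaying I Z (Fin r → A) := ∑ j, mapDecay (LinearMap.single A (fun _ : Fin r => A) j) (q j)
  have hG : ∀ z j, (G : Z → Fin r → A) z j = (q j : Z → A) z := fun z j => by
    simp [G, Submodule.coe_sum, Finset.sum_apply, Pi.single_apply]
  obtain ⟨s, g, hg⟩ := Submodule.fg_iff_exists_fin_generating_family.mp (IsNoetherian.noetherian (LinearMap.ker φ))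
  let ψ : (Fin s → A) →ₗ[A] (Fin r → A) := Fintype.linearCombination A g
  have hψ : LinearMap.range ψ = LinearMap.ker φ := by rw [Fintype.range_linearCombination, hg]
  obtain ⟨c, hc⟩ := exists_artinRees I ψ
  have := isHausdorff_finite I (Fin r → A)
  obtain ⟨h, hh, hhG⟩ := exists_lift ψ c hc (G : Z → Fin r → A) G.2 fun z => by
    rw [hψ, LinearMap.mem_ker, hφsum]
    have := congrFun hx z
    simp only [map_sum, Finset.sum_apply, tensorEval_tmul, Pi.zero_apply] at this
    simpa [hG] using this
  have hq : ∀ j, q j = ∑ t, g t j • mapDecay (LinearMap.proj (R := A) (φ := fun _ : Fin s => A) t) ⟨h, hh⟩ :=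
    fun j => Subtype.ext <| funext fun z => by
      rw [← hG z j, ← hhG z]
      simp [ψ, Fintype.linearCombination_apply, Submodule.coe_sum, Finset.sum_apply, mul_comm]
  simp_rw [hq, tmul_sum, ← smul_tmul]
  rw [Finset.sum_comm]
  refine Finset.sum_eq_zero fun t _ => ?_
  rw [← sum_tmul, ← hφsum, LinearMap.mem_ker.mp (hg ▸ subset_span ⟨t, rfl⟩ : g t ∈ LinearMap.ker φ), zero_tmul]

theorem universallyInjective_subtype (Z : Type u) :
    CAlgX.UniversallyInjective A (decaying I Z A).subtype := by
  classical
  intro Q _ _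
  refine (injective_iff_map_eq_zero _).mpr fun x hx => ?_
  obtain ⟨T, hT⟩ := TensorProduct.exists_finset x
  subst hT
  obtain ⟨e⟩ : Nonempty (T ≃ Fin T.card) := ⟨T.equivFin⟩
  let f : (Fin T.card → A) →ₗ[A] Q := Fintype.linearCombination A fun a => (e.symm a).1.2
  let y : (Fin T.card → A) ⊗[A] decaying I Z A := ∑ a, Pi.single a (1 : A) ⊗ₜ (e.symm a).1.1
  have hfy : TensorProduct.comm A Q _ (f.rTensor _ y) = ∑ p ∈ T, p.1 ⊗ₜ[A] p.2 := by
    rw [← Finset.sum_coe_sort T, ← e.symm.sum_comp]
    simp [y, f, map_sum, Fintype.linearCombination_apply_single]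
  have h2 : f.rTensor (Z → A) ((decaying I Z A).subtype.lTensor _ y) = 0 := by
    apply (TensorProduct.comm A Q (Z → A)).injective
    rw [map_zero, ← hx, ← hfy]
    simp [y, map_sum]
  obtain ⟨Q', _, _, _, g, c, hcg, hg⟩ := CAlgBasics.exists_factor_vanish f _ h2
  have h3 : g.rTensor (decaying I Z A) y = 0 := by
    apply tensorEval_injective I Z Q'
    rw [map_zero]
    show (TensorProduct.piScalarRightHom A A Q' Z) (((decaying I Z A).subtype.lTensor Q') (g.rTensor _ y)) = 0
    rw [← LinearMap.comp_apply _ (g.rTensor _), LinearMap.lTensor_comp_rTensor, ← LinearMap.rTensor_comp_lTensor,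
      LinearMap.comp_apply, hg, map_zero]
  rw [← hfy, ← hcg, LinearMap.rTensor_comp_apply, h3, map_zero, map_zero]

theorem isMittagLeffler_decaying (Z : Type u) : CAlg.IsMittagLeffler A (decaying I Z A) :=
  S6338.result A (decaying I Z A).subtype (universallyInjective_subtype I Z) (S6347.result A Z).2

end Groth.Agent.AdicDecay
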