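import Mathlib
import Groth.Agent.AdicDecay.Flat
import Groth.Agent.CAlgBasics.UnivInj

/-!
# Adically free modules
-/

universe u v w

open W4c5adicflatcompl Submodule TensorProduct

set_option linter.style.haveILetI false

namespace Groth.Agent.AdicDecay

variable {A : Type u} [CommRing A] {I : Ideal A}

theorem map_bijective_of_levels {F M : Type*} [AddCommGroup F] [Module A F] [AddCommGroup M] [Module A M]
    (f : F →ₗ[A] M) (hs : ∀ n, LinearMap.range f ⊔ (I ^ n • ⊤ : Submodule A M) = ⊤)
    (hi : ∀ n v, f v ∈ (I ^ n • ⊤ : Submodule A M) → v ∈ (I ^ n • ⊤ : Submodule A F)) :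
    Function.Bijective (AdicCompletion.map I f) := by
  refine ⟨(injective_iff_map_eq_zero _).mpr fun x hx => AdicCompletion.ext fun n => ?_, fun y => ?_⟩
  · obtain ⟨v, hv⟩ := Submodule.Quotient.mk_surjective _ (x.val n)
    have := congrArg (fun z : AdicCompletion I M => z.val n) hx
    simp only [AdicCompletion.map_val_apply, ← hv, AdicCompletion.val_zero_apply,
      LinearMap.reduceModIdeal_apply] at this
    rw [← hv, AdicCompletion.val_zero_apply, Submodule.Quotient.mk_eq_zero]
    exact hi n v ((Submodule.Quotient.mk_eq_zero _).mp this)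
  · have hex : ∀ n, ∃ v, (Submodule.Quotient.mk (f v) : M ⧸ (I ^ n • ⊤ : Submodule A M)) = y.val n := fun n => by
      obtain ⟨m, hm⟩ := Submodule.Quotient.mk_surjective _ (y.val n)
      obtain ⟨_, ⟨v, rfl⟩, b, hb, hab⟩ := mem_sup.mp (show m ∈ LinearMap.range f ⊔ (I ^ n • ⊤ : Submodule A M) by
        rw [hs n]; trivial)
      exact ⟨v, by rw [← hm, ← hab, Submodule.Quotient.mk_add, (Submodule.Quotient.mk_eq_zero _).mpr hb, add_zero]⟩
    choose a ha using hex
    have hcau : ∀ n, a n ≡ a (n + 1) [SMOD (I ^ n • ⊤ : Submodule A F)] := fun n => by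
      refine SModEq.sub_mem.mpr (hi n _ ?_)
      rw [map_sub, ← Submodule.Quotient.eq, ha n, ← y.2 n.le_succ, ← ha (n + 1)]
      rfl
    exact ⟨AdicCompletion.mk I F (AdicCompletion.AdicCauchySequence.mk I _ a hcau),
      AdicCompletion.ext fun n => (ha n)⟩

/-- Lifting a basis through a nilpotent ideal. -/
theorem bijective_linearCombination_of_flat {R : Type u} [CommRing R] {J : Ideal R} (hJ : IsNilpotent J)
    {N : Type u} [AddCommGroup N] [Module R N] [Module.Flat R N] {Z : Type u} (x : Z → N)
    (hs : span R (Set.range x) ⊔ (J • ⊤ : Submodule R N) = ⊤)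
    (hi : ∀ c : Z →₀ R, Finsupp.linearCombination R x c ∈ (J • ⊤ : Submodule R N) → ∀ z, c z ∈ J) :
    Function.Bijective (Finsupp.linearCombination R x) := by
  classical
  obtain ⟨n, hn⟩ := hJ
  have hsurj : Function.Surjective (Finsupp.linearCombination R x) := by
    rw [← LinearMap.range_eq_top, Finsupp.range_linearCombination]
    have h : ∀ k, span R (Set.range x) ⊔ (J ^ k • ⊤ : Submodule R N) = ⊤ := by
      intro k
      induction k with
      | zero => simp
      | succ k ih =>
        refine eq_top_iff.mpr (ih.ge.trans (sup_le le_sup_left ?_))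
        calc (J ^ k • ⊤ : Submodule R N) = J ^ k • (span R (Set.range x) ⊔ J • ⊤) := by rw [hs]
          _ ≤ _ := by
            rw [Submodule.smul_sup, ← smul_assoc, smul_eq_mul, ← pow_succ]
            exact sup_le_sup_right smul_le_right _
    have := h n
    rwa [hn, Submodule.zero_eq_bot, bot_smul, sup_bot_eq] at this
  refine ⟨LinearMap.ker_eq_bot.mp ?_, hsurj⟩
  set f := Finsupp.linearCombination R x
  set K := LinearMap.ker f
  have hexact : Function.Exact K.subtype f := fun v => ⟨fun h => ⟨⟨v, h⟩, rfl⟩, fun ⟨w, hw⟩ => hw ▸ w.2⟩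
  have hui := CAlgBasics.universallyInjective_of_flat_coker (R := R) (M := K) (N := Z →₀ R) (P := N) (f := K.subtype) (g := f) K.injective_subtype hexact hsurj
  have hKJ : (⊤ : Submodule R K) ≤ J • ⊤ := by
    intro v _
    refine (Submodule.Quotient.mk_eq_zero (R := R) (M := K) _).mp ?_
    apply (TensorProduct.tensorQuotEquivQuotSMul K J).symm.injective
    rw [map_zero, TensorProduct.tensorQuotEquivQuotSMul_symm_mk]
    apply hui (R ⧸ J)
    rw [map_zero, LinearMap.rTensor_tmul, ← TensorProduct.tensorQuotEquivQuotSMul_symm_mk (M := Z →₀ R)]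
    have hv : (v : Z →₀ R) ∈ (J • ⊤ : Submodule R (Z →₀ R)) := by
      rw [← Finsupp.sum_single (v : Z →₀ R)]
      refine sum_mem fun z _ => ?_
      rw [← mul_one ((v : Z →₀ R) z), ← smul_eq_mul, ← Finsupp.smul_single]
      exact smul_mem_smul (hi v (by rw [show f v = 0 from v.2]; exact zero_mem _) z) trivial
    rw [show K.subtype v = (v : Z →₀ R) from rfl, (Submodule.Quotient.mk_eq_zero _).mpr hv, map_zero]
  have hall : ∀ k, (⊤ : Submodule R K) ≤ J ^ k • ⊤ := by
    intro k
    induction k with
    | zero => simp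
    | succ k ih => exact ih.trans ((smul_mono le_rfl hKJ).trans (by rw [← smul_assoc, smul_eq_mul, ← pow_succ]))
  refine (Submodule.eq_bot_iff _).mpr fun v hv => ?_
  have := hall n (x := (⟨v, hv⟩ : K)) trivial
  rw [hn, Submodule.zero_eq_bot, bot_smul, Submodule.mem_bot] at this
  exact congrArg Subtype.val this

variable {M : Type u} [AddCommGroup M] [Module A M]

theorem flat_quotient_smul_top (J : Ideal A) [Module.Flat A M] :
    Module.Flat (A ⧸ J) (M ⧸ (J • ⊤ : Submodule A M)) :=
  Module.Flat.of_linearEquiv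
    ({ (TensorProduct.quotTensorEquivQuotSMul M J).symm with
        map_smul' := fun r y => by
          obtain ⟨r, rfl⟩ := Ideal.Quotient.mk_surjective r
          obtain ⟨y, rfl⟩ := Submodule.Quotient.mk_surjective _ y
          show (TensorProduct.quotTensorEquivQuotSMul M J).symm (r • Submodule.Quotient.mk y) = _
          rw [map_smul]
          exact (algebraMap_smul (A ⧸ J) r _).symm } :
      (M ⧸ (J • ⊤ : Submodule A M)) ≃ₗ[A ⧸ J] (A ⧸ J) ⊗[A] M)

/-- Lifts of a basis modulo `I` form a basis modulo every power, for a module flat modulo powers. -/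
theorem levels_of_flat [∀ n, Module.Flat (A ⧸ I ^ n) (M ⧸ (I ^ n • ⊤ : Submodule A M))] {Z : Type u} (x : Z → M)
    (hs : span A (Set.range x) ⊔ (I • ⊤ : Submodule A M) = ⊤)
    (hi : ∀ c : Z →₀ A, Finsupp.linearCombination A x c ∈ (I • ⊤ : Submodule A M) → ∀ z, c z ∈ I) :
    (∀ n, LinearMap.range (Finsupp.linearCombination A x) ⊔ (I ^ n • ⊤ : Submodule A M) = ⊤) ∧
      ∀ n c, Finsupp.linearCombination A x c ∈ (I ^ n • ⊤ : Submodule A M) →
        c ∈ (I ^ n • ⊤ : Submodule A (Z →₀ A)) := by
  classical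
  have hsup : ∀ n, LinearMap.range (Finsupp.linearCombination A x) ⊔ (I ^ n • ⊤ : Submodule A M) = ⊤ := by
    intro k
    rw [Finsupp.range_linearCombination]
    induction k with
    | zero => simp
    | succ k ih =>
      refine eq_top_iff.mpr (ih.ge.trans (sup_le le_sup_left ?_))
      calc (I ^ k • ⊤ : Submodule A M) = I ^ k • (span A (Set.range x) ⊔ I • ⊤) := by rw [hs]
        _ ≤ _ := by
          rw [Submodule.smul_sup, ← smul_assoc, smul_eq_mul, ← pow_succ]
          exact sup_le_sup_right smul_le_right _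
  refine ⟨hsup, fun n c hc => ?_⟩
  rcases Nat.eq_zero_or_pos n with rfl | hn
  · rw [pow_zero, Ideal.one_eq_top, top_smul]; trivial
  let q : M →ₗ[A] M ⧸ (I ^ n • ⊤ : Submodule A M) := Submodule.mkQ _
  let mk := Ideal.Quotient.mk (I ^ n)
  let J : Ideal (A ⧸ I ^ n) := I.map mk
  have hJ : IsNilpotent J := ⟨n, by rw [← Ideal.map_pow, Ideal.map_quotient_self]; rfl⟩
  have hlc : ∀ d : Z →₀ A, Finsupp.linearCombination (A ⧸ I ^ n) (q ∘ x) (d.mapRange mk (map_zero _)) =
      q (Finsupp.linearCombination A x d) := fun d => by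
    induction d using Finsupp.induction_linear with
    | zero => simp
    | add a b ha hb => rw [Finsupp.mapRange_add (map_add mk), map_add, ha, hb, map_add, map_add]
    | single z a =>
      rw [Finsupp.mapRange_single, Finsupp.linearCombination_single, Finsupp.linearCombination_single, map_smul]
      exact algebraMap_smul (A ⧸ I ^ n) a (q (x z))
  have hJI : ∀ m, m ∈ (J • ⊤ : Submodule (A ⧸ I ^ n) (M ⧸ (I ^ n • ⊤ : Submodule A M))) →
      m ∈ Submodule.map q (I • ⊤ : Submodule A M) := fun m hm => by
    refine Submodule.smul_induction_on hm (fun r hr m _ => ?_) (fun a b ha hb => add_mem ha hb)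
    · obtain ⟨r, hr', rfl⟩ := (Ideal.mem_map_iff_of_surjective _ Ideal.Quotient.mk_surjective).mp hr
      obtain ⟨m, rfl⟩ := Submodule.Quotient.mk_surjective _ m
      exact ⟨r • m, smul_mem_smul hr' trivial, rfl⟩
  have hbij := bijective_linearCombination_of_flat hJ (q ∘ x) (eq_top_iff.mpr fun m _ => ?_) fun d hd z => ?_
  · have h0 : c.mapRange mk (map_zero _) = 0 := hbij.1 (by
      rw [hlc, map_zero]; exact (Submodule.Quotient.mk_eq_zero _).mpr hc)
    rw [← Finsupp.sum_single c]
    refine sum_mem fun z _ => ?_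
    rw [← mul_one (c z), ← smul_eq_mul, ← Finsupp.smul_single]
    refine smul_mem_smul (Ideal.Quotient.eq_zero_iff_mem.mp ?_) trivial
    simpa using DFunLike.congr_fun h0 z
  · obtain ⟨m, rfl⟩ := Submodule.Quotient.mk_surjective _ m
    obtain ⟨a, ha, b, hb, rfl⟩ := mem_sup.mp (hs.ge (trivial : m ∈ ⊤))
    rw [Submodule.Quotient.mk_add]
    refine add_mem (mem_sup_left ?_) (mem_sup_right ?_)
    · have hle : span A (Set.range x) ≤ ((span (A ⧸ I ^ n) (Set.range (q ∘ x))).restrictScalars A).comap q :=
        span_le.mpr (by rintro _ ⟨z, rfl⟩; exact subset_span ⟨z, rfl⟩)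
      exact hle ha
    · refine Submodule.smul_induction_on hb (fun r hr m _ => ?_)
        (fun a b ha hb => by rw [Submodule.Quotient.mk_add]; exact add_mem ha hb)
      · rw [Submodule.Quotient.mk_smul, ← algebraMap_smul (A ⧸ I ^ n) r]
        exact smul_mem_smul (Ideal.mem_map_of_mem mk hr) trivial
  · obtain ⟨d, rfl⟩ := Finsupp.mapRange_surjective mk (map_zero _) Ideal.Quotient.mk_surjective d
    rw [hlc] at hd
    obtain ⟨m, hm, hme⟩ := hJI _ hd
    have : Finsupp.linearCombination A x d ∈ (I • ⊤ : Submodule A M) := by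
      rw [← sub_sub_cancel m (Finsupp.linearCombination A x d)]
      exact sub_mem hm (smul_mono (Ideal.pow_le_self hn.ne') le_rfl ((Submodule.Quotient.eq _).mp hme))
    simpa using Ideal.mem_map_of_mem mk (hi d this z)

/-- A complete module with a family of elements that is a basis modulo all powers is adically free. -/
theorem isAdicFree_of_levels (hI : I.FG) [IsAdicComplete I M] {Z : Type u} (f : (Z →₀ A) →ₗ[A] M)
    (hs : ∀ n, LinearMap.range f ⊔ (I ^ n • ⊤ : Submodule A M) = ⊤)
    (hi : ∀ n v, f v ∈ (I ^ n • ⊤ : Submodule A M) → v ∈ (I ^ n • ⊤ : Submodule A (Z →₀ A))) :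
    IsAdicFree I M := by
  have := AdicCompletion.isAdicComplete (M := A) hI
  exact ⟨Z, ⟨(AdicCompletion.ofLinearEquiv I M).trans
    (((LinearEquiv.ofBijective ((AdicCompletion.map I f).restrictScalars A)
      (map_bijective_of_levels f hs hi)).symm).trans (finsuppEquiv I Z A))⟩⟩

/-- Lifts of a basis of the reduction modulo a maximal ideal. -/
theorem exists_lift_basis (J : Ideal A) [hJ : J.IsMaximal] (M : Type u) [AddCommGroup M] [Module A M] :
    ∃ (Z : Type u) (x : Z → M), span A (Set.range x) ⊔ (J • ⊤ : Submodule A M) = ⊤ ∧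
      ∀ c : Z →₀ A, Finsupp.linearCombination A x c ∈ (J • ⊤ : Submodule A M) → ∀ z, c z ∈ J := by
  classical
  letI : Field (A ⧸ J) := Ideal.Quotient.field J
  let q : M →ₗ[A] M ⧸ (J • ⊤ : Submodule A M) := Submodule.mkQ _
  obtain ⟨⟨Z, b⟩⟩ := Module.Free.exists_basis (R := A ⧸ J) (M := M ⧸ (J • ⊤ : Submodule A M))
  choose x hx using fun z => Submodule.Quotient.mk_surjective _ (b z)
  have hlc : ∀ d : Z →₀ A, q (Finsupp.linearCombination A x d) =
      Finsupp.linearCombination (A ⧸ J) b (d.mapRange (Ideal.Quotient.mk J) (map_zero _)) := fun d => by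
    induction d using Finsupp.induction_linear with
    | zero => simp
    | add a c ha hc => rw [Finsupp.mapRange_add (map_add _), map_add, map_add, map_add, ha, hc]
    | single z a =>
      rw [Finsupp.mapRange_single, Finsupp.linearCombination_single, Finsupp.linearCombination_single, map_smul]
      rw [show q (x z) = b z from hx z]
      exact (algebraMap_smul (A ⧸ J) a (b z)).symm
  refine ⟨Z, x, eq_top_iff.mpr fun m _ => ?_, fun c hc z => ?_⟩
  · obtain ⟨d, hd⟩ := Finsupp.mapRange_surjective (Ideal.Quotient.mk J) (map_zero _) Ideal.Quotient.mk_surjective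
      (b.repr (q m))
    rw [← add_sub_cancel (Finsupp.linearCombination A x d) m]
    refine add_mem (mem_sup_left ?_) (mem_sup_right ((Submodule.Quotient.eq _).mp ?_))
    · rw [← Finsupp.range_linearCombination]; exact ⟨d, rfl⟩
    · show q m = q (Finsupp.linearCombination A x d)
      rw [hlc, hd, b.linearCombination_repr]
  · have h0 : c.mapRange (Ideal.Quotient.mk J) (map_zero _) = 0 := b.linearIndependent (by
      rw [map_zero, ← hlc]; exact (Submodule.Quotient.mk_eq_zero _).mpr hc)
    exact Ideal.Quotient.eq_zero_iff_mem.mp (by simpa using DFunLike.congr_fun h0 z)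

theorem isAdicComplete_of_equiv {N : Type*} [AddCommGroup N] [Module A N] (e : M ≃ₗ[A] N) [IsAdicComplete I N] :
    IsAdicComplete I M := by
  refine { toIsHausdorff := ⟨fun x hx => ?_⟩, toIsPrecomplete := ⟨fun F hF => ?_⟩ }
  · refine e.map_eq_zero_iff.mp (IsHausdorff.haus (inferInstance : IsHausdorff I N) _ fun n => ?_)
    exact SModEq.zero.mpr (map_mem_smul_top e.toLinearMap (SModEq.zero.mp (hx n)))
  · obtain ⟨L, hL⟩ := IsPrecomplete.prec (inferInstance : IsPrecomplete I N)
      (f := fun n => e (F n)) fun {m n} h => SModEq.sub_mem.mpr (by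
        rw [← map_sub]; exact map_mem_smul_top e.toLinearMap (SModEq.sub_mem.mp (hF h)))
    refine ⟨e.symm L, fun n => SModEq.sub_mem.mpr ?_⟩
    have := map_mem_smul_top e.symm.toLinearMap (SModEq.sub_mem.mp (hL n))
    simpa [map_sub] using this

theorem isAdicComplete_of_isAdicFree (hI : I.FG) (h : IsAdicFree I M) : IsAdicComplete I M := by
  obtain ⟨Z, ⟨e⟩⟩ := h
  have := AdicCompletion.isAdicComplete (M := A) hI
  have := isAdicComplete_decaying (Z := Z) (M := AdicCompletion I A) hI
  exact isAdicComplete_of_equiv e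

end Groth.Agent.AdicDecay
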