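import Mathlib
import Groth.Agent.AdicDecay.Completion

/-!
# Maps out of decaying functions with values in the completion of the ring
-/

universe u v w

open W4c5adicflatcompl Submodule

set_option linter.style.haveILetI false

namespace Groth.Agent.AdicDecay

variable {A : Type u} [CommRing A] {I : Ideal A} {Z : Type v} {M : Type w} [AddCommGroup M] [Module A M]

theorem completion_ext (hI : I.FG) [IsHausdorff I M] {ψ ψ' : AdicCompletion I A →ₗ[A] M}
    (h : ψ 1 = ψ' 1) : ψ = ψ' := by
  refine LinearMap.ext fun x => (IsHausdorff.eq_iff_smodEq (I := I)).mpr fun n => SModEq.sub_mem.mpr ?_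
  obtain ⟨a, ha⟩ := Submodule.Quotient.mk_surjective _ (x.val n)
  have hx : x - AdicCompletion.of I A a ∈ (I ^ n • ⊤ : Submodule A (AdicCompletion I A)) := by
    rw [AdicCompletion.pow_smul_top_eq_ker_eval hI, LinearMap.mem_ker, map_sub, AdicCompletion.eval_of,
      AdicCompletion.eval_apply, ← ha]
    exact sub_self _
  have hof : AdicCompletion.of I A a = a • (1 : AdicCompletion I A) := by
    rw [← Algebra.algebraMap_eq_smul_one]; rfl
  have := sub_mem (map_mem_smul_top ψ hx) (map_mem_smul_top ψ' hx)
  simpa [hof, h] using this

variable [IsAdicComplete I M]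

/-- The map out of decaying functions determined by the images of the single functions. -/
noncomputable def ofSingle (f : Z → M) : decaying I Z (AdicCompletion I A) →ₗ[A] M :=
  adicSum fun z => (AdicCompletion.ofLinearEquiv I M).symm.toLinearMap ∘ₗ
    (AdicCompletion.map I (LinearMap.toSpanSingleton A M (f z))).restrictScalars A

theorem ofSingle_single_one [DecidableEq Z] (f : Z → M) (z : Z) :
    ofSingle f (single I z (1 : AdicCompletion I A)) = f z := by
  rw [ofSingle, adicSum_single]
  have h1 : (1 : AdicCompletion I A) = AdicCompletion.of I A 1 :=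
    (map_one (algebraMap A (AdicCompletion I A))).symm
  show (AdicCompletion.ofLinearEquiv I M).symm (AdicCompletion.map I (LinearMap.toSpanSingleton A M (f z)) (1 : AdicCompletion I A)) = f z
  rw [h1, AdicCompletion.map_of, AdicCompletion.ofLinearEquiv_symm_of, LinearMap.toSpanSingleton_apply, one_smul]

theorem ext_single_one [DecidableEq Z] (hI : I.FG) {ψ ψ' : decaying I Z (AdicCompletion I A) →ₗ[A] M}
    (h : ∀ z, ψ (single I z (1 : AdicCompletion I A)) = ψ' (single I z (1 : AdicCompletion I A))) : ψ = ψ' := by
  refine ext_single hI fun z x => ?_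
  let s : AdicCompletion I A →ₗ[A] decaying I Z (AdicCompletion I A) :=
    (LinearMap.single A (fun _ : Z => AdicCompletion I A) z).codRestrict _ fun y => (single I z y).2
  have hs : ∀ y, s y = single I z y := fun y => Subtype.ext rfl
  have := LinearMap.congr_fun (completion_ext hI (ψ := ψ ∘ₗ s) (ψ' := ψ' ∘ₗ s) (by simpa [hs] using h z)) x
  simpa [hs] using this

end Groth.Agent.AdicDecay
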